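import Cfsg.Agent.H863.U33.Words
import Cfsg.Agent.H913.U33.Ne

/-!
# S5525, part G: data of the type II enumeration (helper827)

Frame: `c⁻¹ y₀ c = y1`, `c⁻¹ u₀ c = g wu1`; `wa 0, wa 1, wa 2` transpositions, `wa 3` of order 3, commuting with `g wu1` and `y1`;
`(g (wa i))⁻¹ e_j g (wa i) = nf (AG i j) (CG i j)`; `repL` : representatives of the vectors not fixed by a transposition.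
-/

set_option autoImplicit false

namespace Cfsg.Agent.H827.U33

open Cfsg.Agent.BabyM.Conc Cfsg.Agent.BabyM.Inst Cfsg.Agent.BabyM.TransInv Cfsg.Agent.H819.U33 Cfsg.Agent.H863.U33

/-- the link `c` (helper840) -/
def wc : List Ltr :=
  [.y1, .p4, .hi, .p10, .xii, .taui, .X0, .X4, .Z5, .xi, .p5, .h, .p8, .y4, .p8]

/-- `c⁻¹ u₀ c` -/
def wu1 : List Ltr :=
  [.p3, .y4, .p3, .hi, .p6, .xii, .Z5, .X4, .X0, .tau, .xi, .p, .h, .p7, .y1, .p5, .hi, .p4, .h, .y1, .p4, .hi,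
   .p10, .xii, .taui, .X0, .X4, .Z5, .xi, .p5, .h, .p8, .y4, .p8]

/-- generators of the centralizer of `⟨u₀, y₀⟩` (order 36), in the frame of `y1` -/
def wa : Fin 4 → List Ltr := ![
  [.p3, .y4, .p3, .hi, .p6, .xii, .Z5, .X4, .X0, .tau, .xi, .p, .h, .p7, .y1, .hi, .p, .hi, .y10, .p2, .h, .p5,
   .xi, .y10, .xi, .y10, .p, .y2, .p7, .y8, .xi, .p7, .y5, .y4, .p5, .y2, .p10, .y2, .xii, .y3, .p7, .y5, .X1,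
   .X2, .X4, .X6, .X9, .Z1, .Z3, .Z4, .Z8, .X1, .X8, .Z2, .Z6, .z, .p4, .h, .y1, .p4, .hi, .p10, .xii, .taui,
   .X0, .X4, .Z5, .xi, .p5, .h, .p8, .y4, .p8],
  [.p3, .y4, .p3, .hi, .p6, .xii, .Z5, .X4, .X0, .tau, .xi, .p, .h, .p7, .y1, .hi, .p7, .Z2, .Z4, .Z5, .Z7, .Z8,
   .Z9, .p4, .h, .y1, .p4, .hi, .p10, .xii, .taui, .X0, .X4, .Z5, .xi, .p5, .h, .p8, .y4, .p8],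
  [.p3, .y4, .p3, .hi, .p6, .xii, .Z5, .X4, .X0, .tau, .xi, .p, .h, .p7, .y1, .p5, .hi, .p5, .xii, .p9, .xii,
   .p8, .xi, .y2, .p8, .h, .xi, .p10, .xi, .taui, .z, .Z5, .Z2, .X6, .X5, .X4, .p8, .y2, .p9, .h, .y8, .y3,
   .xi, .p10, .y4, .y7, .p4, .xii, .y8, .p5, .y10, .p9, .h, .y2, .xi, .y4, .y5, .xii, .h, .p4, .xi, .y10, .y3,
   .y10, .xi, .p4, .y1, .y10, .xi, .y6, .p4, .xi, .p9, .y9, .hi, .p5, .Z6, .Z2, .X8, .X1, .tau, .X10, .taui,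
   .X1, .X8, .Z2, .Z6, .p6, .h, .y9, .p2, .xii, .p7, .y6, .xii, .y10, .y1, .p7, .xii, .y10, .y3, .y10, .xii,
   .p7, .hi, .xi, .y5, .y4, .xii, .y2, .hi, .p2, .y10, .p6, .y8, .xi, .p7, .y7, .y4, .p, .xii, .y3, .y8, .hi,
   .p2, .y2, .p3, .X4, .X5, .X6, .Z2, .Z5, .z, .tau, .xii, .p, .xii, .hi, .p3, .y2, .xii, .p3, .xi, .p2, .xi,
   .p6, .h, .p6, .y1, .p4, .hi, .p10, .xii, .taui, .X0, .X4, .Z5, .xi, .p5, .h, .p8, .y4, .p8],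
  [.p3, .y4, .p3, .hi, .p6, .xii, .Z5, .X4, .X0, .tau, .xi, .p, .h, .p7, .y1, .tau, .y1, .p4, .hi, .p10, .xii,
   .taui, .X0, .X4, .Z5, .xi, .p5, .h, .p8, .y4, .p8]]

/-- matrices -/
def AG : Fin 4 → Fin 8 → Fin 8 → ZMod 3 := ![
  ![![1, 0, 0, 0, 0, 0, 0, 0], ![0, 1, 0, 0, 0, 0, 0, 0], ![0, 0, 0, 0, 1, 2, 0, 0], ![0, 0, 0, 0, 1, 1, 0, 0],
   ![0, 0, 2, 2, 0, 0, 0, 0], ![0, 0, 1, 2, 0, 0, 0, 0], ![0, 0, 0, 0, 0, 0, 1, 0], ![0, 0, 0, 0, 0, 0, 0, 1]],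
  ![![1, 0, 0, 0, 0, 0, 0, 0], ![0, 1, 0, 0, 0, 0, 0, 0], ![0, 0, 1, 0, 0, 0, 0, 0], ![0, 0, 0, 1, 0, 0, 0, 0],
   ![0, 0, 0, 0, 1, 0, 0, 0], ![0, 0, 0, 0, 0, 1, 0, 0], ![0, 0, 0, 0, 0, 0, 2, 0], ![0, 0, 0, 0, 0, 0, 0, 2]],
  ![![2, 0, 2, 0, 2, 1, 1, 1], ![0, 2, 0, 1, 1, 1, 2, 1], ![2, 0, 2, 0, 1, 2, 2, 2], ![0, 1, 0, 2, 1, 1, 2, 1],
   ![1, 2, 2, 2, 2, 0, 2, 0], ![2, 2, 1, 2, 0, 2, 0, 1], ![2, 1, 1, 1, 2, 0, 2, 0], ![2, 2, 1, 2, 0, 1, 0, 2]],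
  ![![1, 2, 0, 0, 0, 0, 0, 0], ![0, 1, 0, 0, 0, 0, 0, 0], ![0, 0, 1, 1, 0, 0, 0, 0], ![0, 0, 0, 1, 0, 0, 0, 0],
   ![0, 0, 0, 0, 0, 2, 0, 0], ![0, 0, 0, 0, 1, 2, 0, 0], ![0, 0, 0, 0, 0, 0, 0, 1], ![0, 0, 0, 0, 0, 0, 2, 2]]]

/-- exponents of `y1` -/
def CG : Fin 4 → Fin 8 → ZMod 3 := ![
  ![0, 0, 0, 1, 0, 0, 0, 0],
  ![0, 0, 0, 0, 0, 0, 2, 0],
  ![2, 0, 0, 0, 1, 0, 1, 0],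
  ![2, 0, 2, 0, 0, 2, 1, 0]]

/-- representatives, part 0 -/
def rep0 : List (Fin 8 → ZMod 3) := [
  ![0, 0, 0, 0, 1, 0, 0, 1],
  ![0, 0, 0, 0, 0, 1, 1, 0],
  ![0, 0, 0, 0, 2, 0, 0, 1],
  ![1, 0, 0, 0, 1, 0, 1, 0],
  ![0, 0, 0, 0, 1, 1, 0, 1],
  ![0, 1, 0, 0, 1, 0, 0, 1],
  ![1, 0, 0, 0, 0, 1, 0, 1],
  ![0, 1, 0, 0, 1, 0, 1, 0],
  ![1, 0, 0, 0, 0, 1, 1, 0],
  ![0, 1, 0, 0, 0, 1, 0, 1],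
  ![0, 0, 0, 0, 0, 2, 1, 0],
  ![0, 1, 0, 0, 0, 1, 1, 0],
  ![1, 0, 0, 0, 2, 0, 0, 1],
  ![1, 0, 0, 0, 2, 0, 1, 0],
  ![2, 0, 0, 0, 1, 0, 1, 0],
  ![1, 1, 0, 0, 1, 0, 0, 1],
  ![2, 0, 0, 0, 0, 1, 0, 1],
  ![1, 0, 0, 0, 1, 1, 1, 0],
  ![1, 1, 0, 0, 1, 0, 1, 0]]

/-- representatives, part 1 -/
def rep1 : List (Fin 8 → ZMod 3) := [
  ![0, 1, 0, 0, 1, 1, 0, 1],
  ![1, 1, 0, 0, 0, 1, 0, 1],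
  ![0, 2, 0, 0, 1, 0, 1, 0],
  ![1, 1, 0, 0, 0, 1, 1, 0],
  ![0, 0, 0, 1, 1, 0, 0, 1],
  ![0, 2, 0, 0, 0, 1, 0, 1],
  ![0, 0, 0, 1, 1, 0, 1, 0],
  ![0, 0, 1, 0, 1, 0, 1, 0],
  ![1, 0, 1, 0, 0, 0, 1, 0],
  ![0, 0, 0, 1, 0, 1, 0, 1],
  ![0, 0, 0, 1, 0, 1, 1, 0],
  ![0, 0, 1, 0, 0, 1, 0, 1],
  ![2, 0, 0, 0, 2, 0, 1, 0],
  ![1, 0, 0, 0, 2, 1, 0, 1],
  ![1, 1, 0, 0, 2, 0, 0, 1],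
  ![2, 0, 0, 0, 1, 1, 0, 1],
  ![2, 1, 0, 0, 1, 0, 0, 1],
  ![1, 0, 0, 0, 2, 1, 1, 0],
  ![0, 0, 0, 0, 2, 2, 0, 1]]

/-- representatives, part 2 -/
def rep2 : List (Fin 8 → ZMod 3) := [
  ![1, 1, 0, 0, 1, 1, 0, 1],
  ![2, 0, 0, 0, 0, 2, 0, 1],
  ![2, 1, 0, 0, 0, 1, 1, 0],
  ![1, 0, 0, 1, 1, 0, 0, 1],
  ![0, 2, 0, 0, 1, 1, 0, 1],
  ![1, 0, 0, 0, 1, 0, 1, 1],
  ![1, 0, 1, 0, 1, 0, 0, 1],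
  ![2, 0, 1, 0, 0, 0, 0, 1],
  ![1, 2, 0, 0, 0, 1, 1, 0],
  ![0, 0, 1, 0, 2, 0, 1, 0],
  ![2, 0, 1, 0, 0, 0, 1, 0],
  ![0, 1, 1, 0, 1, 0, 0, 1],
  ![0, 1, 1, 0, 1, 0, 1, 0],
  ![1, 0, 1, 0, 0, 1, 1, 0],
  ![0, 0, 1, 0, 0, 2, 0, 1],
  ![0, 1, 1, 0, 0, 1, 1, 0],
  ![2, 2, 0, 0, 1, 0, 0, 1],
  ![2, 1, 0, 0, 1, 1, 1, 0],
  ![1, 0, 0, 1, 2, 0, 0, 1]]

/-- representatives, part 3 -/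
def rep3 : List (Fin 8 → ZMod 3) := [
  ![0, 1, 0, 0, 2, 2, 0, 1],
  ![1, 0, 1, 0, 2, 0, 0, 1],
  ![2, 0, 0, 0, 1, 0, 1, 1],
  ![2, 0, 1, 0, 1, 0, 1, 0],
  ![0, 1, 0, 1, 2, 0, 0, 1],
  ![0, 0, 1, 0, 2, 1, 0, 1],
  ![1, 0, 1, 0, 1, 1, 0, 1],
  ![1, 1, 1, 0, 1, 0, 0, 1],
  ![2, 0, 0, 0, 0, 1, 1, 1],
  ![2, 0, 0, 1, 0, 1, 1, 0],
  ![0, 0, 1, 0, 2, 1, 1, 0],
  ![1, 1, 1, 0, 1, 0, 1, 0],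
  ![0, 2, 0, 1, 1, 0, 0, 1],
  ![1, 1, 0, 1, 0, 1, 0, 1],
  ![0, 2, 1, 0, 1, 0, 0, 1],
  ![1, 0, 0, 1, 0, 2, 1, 0],
  ![1, 1, 1, 0, 0, 1, 0, 1],
  ![0, 0, 0, 0, 1, 0, 1, 2],
  ![0, 1, 0, 1, 0, 2, 1, 0]]

/-- representatives, part 4 -/
def rep4 : List (Fin 8 → ZMod 3) := [
  ![0, 2, 0, 1, 0, 1, 1, 0],
  ![0, 0, 1, 0, 1, 0, 1, 1],
  ![2, 0, 0, 1, 2, 0, 0, 1],
  ![0, 0, 2, 0, 1, 0, 1, 0],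
  ![1, 1, 0, 0, 2, 2, 0, 1],
  ![2, 0, 1, 0, 2, 0, 0, 1],
  ![1, 0, 1, 0, 2, 1, 0, 1],
  ![2, 1, 1, 0, 1, 0, 0, 1],
  ![1, 0, 1, 0, 2, 1, 1, 0],
  ![2, 1, 1, 0, 1, 0, 1, 0],
  ![0, 0, 0, 1, 2, 2, 0, 1],
  ![1, 2, 0, 1, 1, 0, 1, 0],
  ![1, 0, 1, 1, 1, 0, 0, 1],
  ![1, 0, 1, 1, 1, 0, 1, 0],
  ![0, 1, 2, 0, 1, 0, 0, 1],
  ![2, 1, 0, 0, 2, 2, 1, 0],
  ![0, 2, 1, 0, 0, 2, 1, 0],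
  ![0, 1, 0, 0, 0, 1, 1, 2],
  ![2, 0, 1, 0, 2, 1, 0, 1]]

/-- representatives, part 5 -/
def rep5 : List (Fin 8 → ZMod 3) := [
  ![2, 1, 0, 1, 2, 0, 1, 0],
  ![0, 0, 2, 0, 0, 2, 0, 1],
  ![2, 0, 1, 0, 2, 1, 1, 0],
  ![2, 1, 1, 0, 2, 0, 1, 0],
  ![2, 2, 1, 0, 1, 0, 0, 1],
  ![0, 1, 0, 1, 2, 2, 0, 1],
  ![2, 0, 1, 1, 1, 0, 1, 0],
  ![2, 0, 2, 0, 1, 0, 0, 1],
  ![1, 0, 0, 0, 1, 1, 1, 2],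
  ![1, 1, 1, 1, 1, 0, 1, 0],
  ![1, 1, 0, 2, 0, 1, 0, 1],
  ![1, 1, 0, 0, 0, 1, 1, 2],
  ![0, 0, 0, 1, 0, 1, 1, 2],
  ![2, 1, 0, 0, 1, 0, 1, 2],
  ![2, 1, 2, 0, 1, 0, 1, 0],
  ![0, 2, 0, 0, 1, 1, 1, 2],
  ![0, 1, 1, 0, 1, 0, 1, 2],
  ![2, 1, 1, 0, 0, 1, 1, 2],
  ![1, 1, 2, 0, 1, 0, 1, 2]]

/-- the representatives -/
def repL : List (Fin 8 → ZMod 3) := rep0 ++ rep1 ++ rep2 ++ rep3 ++ rep4 ++ rep5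

/-- the relation `rel` fails for `nf v b` -/
noncomputable def tst (v : Fin 8 → ZMod 3) (b : ZMod 3) : Bool :=
  ne (nfw v b ++ wu1 ++ nfw v b ++ winv wu1)
    (winv wu1 ++ winv wu1 ++ winv (nfw v b) ++ winv wu1 ++ winv (nfw v b) ++ wu1 ++ nfw v b)

/-- all tests of a list -/
noncomputable def tstL (l : List (Fin 8 → ZMod 3)) : Bool := l.all fun v => tst v 0 && (tst v 1 && tst v 2)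

end Cfsg.Agent.H827.U33
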