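import Cfsg.Agent.H827.U33.GRel0
import Cfsg.Agent.H827.U33.GRel1
import Cfsg.Agent.H827.U33.GRel2
import Cfsg.Agent.H827.U33.GRel3
import Cfsg.Agent.H827.U33.GRel4
import Cfsg.Agent.H827.U33.GRel5
import Cfsg.Agent.H827.U33.GRel6
import Cfsg.Agent.H827.U33.GRel7
import Cfsg.Agent.H827.U33.GRel8
import Cfsg.Agent.H827.U33.GRel9
import Cfsg.Agent.H827.U33.GRel10
import Cfsg.Agent.H827.U33.GRel11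

/-! # S5525, part G: all relation checks (helper827) -/

set_option autoImplicit false

namespace Cfsg.Agent.H827.U33

theorem rel0 : tstL rep0 = true := by
  simp only [tstL, rep0, List.all_cons, List.all_nil, Bool.and_eq_true, Bool.true_and, Bool.and_true]
  exact ⟨⟨r0_0, r0_1, r0_2⟩, ⟨r1_0, r1_1, r1_2⟩, ⟨r2_0, r2_1, r2_2⟩, ⟨r3_0, r3_1, r3_2⟩, ⟨r4_0, r4_1, r4_2⟩, ⟨r5_0, r5_1, r5_2⟩, ⟨r6_0, r6_1, r6_2⟩, ⟨r7_0, r7_1, r7_2⟩, ⟨r8_0, r8_1, r8_2⟩, ⟨r9_0, r9_1, r9_2⟩, ⟨r10_0, r10_1, r10_2⟩, ⟨r11_0, r11_1, r11_2⟩, ⟨r12_0, r12_1, r12_2⟩, ⟨r13_0, r13_1, r13_2⟩, ⟨r14_0, r14_1, r14_2⟩, ⟨r15_0, r15_1, r15_2⟩, ⟨r16_0, r16_1, r16_2⟩, ⟨r17_0, r17_1, r17_2⟩, ⟨r18_0, r18_1, r18_2⟩⟩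

theorem rel1 : tstL rep1 = true := by
  simp only [tstL, rep1, List.all_cons, List.all_nil, Bool.and_eq_true, Bool.true_and, Bool.and_true]
  exact ⟨⟨r19_0, r19_1, r19_2⟩, ⟨r20_0, r20_1, r20_2⟩, ⟨r21_0, r21_1, r21_2⟩, ⟨r22_0, r22_1, r22_2⟩, ⟨r23_0, r23_1, r23_2⟩, ⟨r24_0, r24_1, r24_2⟩, ⟨r25_0, r25_1, r25_2⟩, ⟨r26_0, r26_1, r26_2⟩, ⟨r27_0, r27_1, r27_2⟩, ⟨r28_0, r28_1, r28_2⟩, ⟨r29_0, r29_1, r29_2⟩, ⟨r30_0, r30_1, r30_2⟩, ⟨r31_0, r31_1, r31_2⟩, ⟨r32_0, r32_1, r32_2⟩, ⟨r33_0, r33_1, r33_2⟩, ⟨r34_0, r34_1, r34_2⟩, ⟨r35_0, r35_1, r35_2⟩, ⟨r36_0, r36_1, r36_2⟩, ⟨r37_0, r37_1, r37_2⟩⟩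

theorem rel2 : tstL rep2 = true := by
  simp only [tstL, rep2, List.all_cons, List.all_nil, Bool.and_eq_true, Bool.true_and, Bool.and_true]
  exact ⟨⟨r38_0, r38_1, r38_2⟩, ⟨r39_0, r39_1, r39_2⟩, ⟨r40_0, r40_1, r40_2⟩, ⟨r41_0, r41_1, r41_2⟩, ⟨r42_0, r42_1, r42_2⟩, ⟨r43_0, r43_1, r43_2⟩, ⟨r44_0, r44_1, r44_2⟩, ⟨r45_0, r45_1, r45_2⟩, ⟨r46_0, r46_1, r46_2⟩, ⟨r47_0, r47_1, r47_2⟩, ⟨r48_0, r48_1, r48_2⟩, ⟨r49_0, r49_1, r49_2⟩, ⟨r50_0, r50_1, r50_2⟩, ⟨r51_0, r51_1, r51_2⟩, ⟨r52_0, r52_1, r52_2⟩, ⟨r53_0, r53_1, r53_2⟩, ⟨r54_0, r54_1, r54_2⟩, ⟨r55_0, r55_1, r55_2⟩, ⟨r56_0, r56_1, r56_2⟩⟩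

theorem rel3 : tstL rep3 = true := by
  simp only [tstL, rep3, List.all_cons, List.all_nil, Bool.and_eq_true, Bool.true_and, Bool.and_true]
  exact ⟨⟨r57_0, r57_1, r57_2⟩, ⟨r58_0, r58_1, r58_2⟩, ⟨r59_0, r59_1, r59_2⟩, ⟨r60_0, r60_1, r60_2⟩, ⟨r61_0, r61_1, r61_2⟩, ⟨r62_0, r62_1, r62_2⟩, ⟨r63_0, r63_1, r63_2⟩, ⟨r64_0, r64_1, r64_2⟩, ⟨r65_0, r65_1, r65_2⟩, ⟨r66_0, r66_1, r66_2⟩, ⟨r67_0, r67_1, r67_2⟩, ⟨r68_0, r68_1, r68_2⟩, ⟨r69_0, r69_1, r69_2⟩, ⟨r70_0, r70_1, r70_2⟩, ⟨r71_0, r71_1, r71_2⟩, ⟨r72_0, r72_1, r72_2⟩, ⟨r73_0, r73_1, r73_2⟩, ⟨r74_0, r74_1, r74_2⟩, ⟨r75_0, r75_1, r75_2⟩⟩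

theorem rel4 : tstL rep4 = true := by
  simp only [tstL, rep4, List.all_cons, List.all_nil, Bool.and_eq_true, Bool.true_and, Bool.and_true]
  exact ⟨⟨r76_0, r76_1, r76_2⟩, ⟨r77_0, r77_1, r77_2⟩, ⟨r78_0, r78_1, r78_2⟩, ⟨r79_0, r79_1, r79_2⟩, ⟨r80_0, r80_1, r80_2⟩, ⟨r81_0, r81_1, r81_2⟩, ⟨r82_0, r82_1, r82_2⟩, ⟨r83_0, r83_1, r83_2⟩, ⟨r84_0, r84_1, r84_2⟩, ⟨r85_0, r85_1, r85_2⟩, ⟨r86_0, r86_1, r86_2⟩, ⟨r87_0, r87_1, r87_2⟩, ⟨r88_0, r88_1, r88_2⟩, ⟨r89_0, r89_1, r89_2⟩, ⟨r90_0, r90_1, r90_2⟩, ⟨r91_0, r91_1, r91_2⟩, ⟨r92_0, r92_1, r92_2⟩, ⟨r93_0, r93_1, r93_2⟩, ⟨r94_0, r94_1, r94_2⟩⟩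

theorem rel5 : tstL rep5 = true := by
  simp only [tstL, rep5, List.all_cons, List.all_nil, Bool.and_eq_true, Bool.true_and, Bool.and_true]
  exact ⟨⟨r95_0, r95_1, r95_2⟩, ⟨r96_0, r96_1, r96_2⟩, ⟨r97_0, r97_1, r97_2⟩, ⟨r98_0, r98_1, r98_2⟩, ⟨r99_0, r99_1, r99_2⟩, ⟨r100_0, r100_1, r100_2⟩, ⟨r101_0, r101_1, r101_2⟩, ⟨r102_0, r102_1, r102_2⟩, ⟨r103_0, r103_1, r103_2⟩, ⟨r104_0, r104_1, r104_2⟩, ⟨r105_0, r105_1, r105_2⟩, ⟨r106_0, r106_1, r106_2⟩, ⟨r107_0, r107_1, r107_2⟩, ⟨r108_0, r108_1, r108_2⟩, ⟨r109_0, r109_1, r109_2⟩, ⟨r110_0, r110_1, r110_2⟩, ⟨r111_0, r111_1, r111_2⟩, ⟨r112_0, r112_1, r112_2⟩, ⟨r113_0, r113_1, r113_2⟩⟩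

theorem relL : tstL repL = true := by
  unfold tstL repL
  simp only [List.all_append, Bool.and_eq_true]
  exact ⟨⟨⟨⟨⟨rel0, rel1⟩, rel2⟩, rel3⟩, rel4⟩, rel5⟩

end Cfsg.Agent.H827.U33
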